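import Groth.Agent.SimpConn21.Univ
import Groth.Agent.Lib.FEt21.Paths
import Groth.Agent.Lib.FEt21.Normal
import Groth.Agent.Lib.Ref1.Connected

/-!
# Simple connectedness of rational varieties and universal covers of unirational varieties
-/

set_option autoImplicit false
set_option linter.style.haveILetI false
set_option backward.isDefEq.respectTransparency false

universe u

open CategoryTheory CategoryTheory.Limits AlgebraicGeometry

namespace GrothLib.SimpConn21

variable {X : Scheme.{u}} [IsIntegral X]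

/-- A connected cover of a normal scheme has one point over the generic point. -/
theorem subsingleton_generic [IsNoetherian X] (hX : Pi1.IsNormalScheme X) (W : FEt.Cat X) [ConnectedSpace W.left]
    {K : Type u} [Field K] (jK : Spec (CommRingCat.of K) ⟶ X) [IsPreimmersion jK]
    (hj : genericPoint X ∈ Set.range jK) : Subsingleton ↥(pullback W.hom jK) := by
  haveI : IsFinite W.hom := W.prop.1
  haveI : Etale W.hom := W.prop.2
  haveI : IsLocallyNoetherian ((Functor.fromPUnit X).obj W.right) := inferInstanceAs (IsLocallyNoetherian X)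
  haveI : CompactSpace ((Functor.fromPUnit X).obj W.right) := inferInstanceAs (CompactSpace X)
  haveI : IsIntegral ((Functor.fromPUnit X).obj W.right) := inferInstanceAs (IsIntegral X)
  haveI : IsLocallyNoetherian W.left := LocallyOfFiniteType.isLocallyNoetherian W.hom
  haveI : CompactSpace W.left := QuasiCompact.compactSpace_of_compactSpace W.hom
  haveI : IsNoetherian W.left := {}
  haveI : IsIntegral W.left := GrothLib.Ref1.isIntegral_of_connected fun w =>
    (GrothLib.FEt21.isNormalScheme_of_etale hX W.hom w).1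
  let Q := pullback W.hom jK
  let q : Q ⟶ Spec (CommRingCat.of K) := pullback.snd W.hom jK
  let ι : Q ⟶ W.left := pullback.fst W.hom jK
  haveI : IsPreimmersion ι := inferInstanceAs (IsPreimmersion (pullback.fst W.hom jK))
  haveI : IsAffine Q := isAffine_of_isAffineHom q
  obtain ⟨ψ, hψ⟩ := Spec.map_surjective (Q.isoSpec.inv ≫ q)
  have h1 : IsFinite (Spec.map ψ) := by rw [hψ]; infer_instance
  rw [IsFinite.SpecMap_iff] at h1
  algebraize [ψ.hom]
  haveI : IsArtinianRing Γ(Q, ⊤) := isArtinian_of_tower K inferInstance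
  haveI : DiscreteTopology ↥(Spec Γ(Q, ⊤)) := inferInstanceAs (DiscreteTopology (PrimeSpectrum Γ(Q, ⊤)))
  haveI : DiscreteTopology Q := Q.isoSpec.hom.homeomorph.isEmbedding.discreteTopology
  have key : ∀ a : Q, ι a = genericPoint W.left := fun a => by
    have ha : W.hom (ι a) = genericPoint X := by
      obtain ⟨y, hy⟩ := hj
      show (ι ≫ W.hom) a = _
      rw [pullback.condition, Scheme.Hom.comp_apply, ← hy]
      exact congrArg jK (Subsingleton.elim (α := PrimeSpectrum K) _ _)
    have hg : W.hom (genericPoint W.left) = genericPoint X := by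
      refine ((genericPoint_specializes (W.hom (genericPoint W.left))).antisymm ?_).eq.symm
      exact ha.subst (motive := fun y => W.hom (genericPoint W.left) ⤳ y)
        ((genericPoint_specializes (ι a)).map W.hom.continuous)
    obtain ⟨g, hgι⟩ : genericPoint W.left ∈ Set.range ι := by
      rw [Scheme.Pullback.range_fst, Set.mem_preimage]
      exact hg.symm.subst (motive := fun y => y ∈ Set.range jK) hj
    have hsp : g ⤳ a := ι.isEmbedding.isInducing.specializes_iff.1 (hgι ▸ genericPoint_specializes (ι a))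
    rw [← specializes_iff_eq.1 hsp, hgι]
  exact ⟨fun a b => ι.isEmbedding.injective ((key a).trans (key b).symm)⟩

theorem fg_top_fractionRing (k : Type u) [Field k] (r : ℕ) :
    (⊤ : IntermediateField k (FractionRing (MvPolynomial (Fin r) k))).FG := by
  classical
  let F := FractionRing (MvPolynomial (Fin r) k)
  refine ⟨Finset.univ.image fun i => algebraMap (MvPolynomial (Fin r) k) F (MvPolynomial.X i), top_unique fun x _ => ?_⟩
  let E := IntermediateField.adjoin k (((Finset.univ : Finset (Fin r)).image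
    fun i => algebraMap (MvPolynomial (Fin r) k) F (MvPolynomial.X i) : Finset F) : Set F)
  have key : ∀ p : MvPolynomial (Fin r) k, algebraMap (MvPolynomial (Fin r) k) F p ∈ E := by
    intro p
    induction p using MvPolynomial.induction_on with
    | C c =>
      rw [← MvPolynomial.algebraMap_eq, ← IsScalarTower.algebraMap_apply]
      exact E.algebraMap_mem c
    | add p q hp hq => rw [map_add]; exact E.add_mem hp hq
    | mul_X p i hp =>
      rw [map_mul]
      exact E.mul_mem hp (IntermediateField.subset_adjoin k _ (by simp))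
  obtain ⟨a, b, -, rfl⟩ := IsFractionRing.div_surjective (A := MvPolynomial (Fin r) k) x
  exact E.div_mem (key a) (key b)

theorem fg_top_of_comp {k K F : Type u} [Field k] [Field K] [Field F] [Algebra k F] [Algebra K F] (θ : k →+* K)
    (hθ : (algebraMap K F).comp θ = algebraMap k F) (hfg : (⊤ : IntermediateField k F).FG) :
    (⊤ : IntermediateField K F).FG := by
  obtain ⟨s, hs⟩ := hfg
  refine ⟨s, top_unique fun x _ => ?_⟩
  have hx : x ∈ IntermediateField.adjoin k (s : Set F) := hs ▸ trivial
  induction hx using IntermediateField.adjoin_induction with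
  | mem y hy => exact IntermediateField.subset_adjoin K _ hy
  | algebraMap c => rw [← hθ]; exact IntermediateField.algebraMap_mem _ _
  | add _ _ _ _ h₁ h₂ => exact add_mem (h₁ trivial) (h₂ trivial)
  | inv _ _ h => exact inv_mem (h trivial)
  | mul _ _ _ _ h₁ h₂ => exact mul_mem (h₁ trivial) (h₂ trivial)

/-- A unirational proper normal variety has only boundedly many geometric points in a connected cover. -/
theorem exists_bound (k : Type u) [Field k] (hN : Pi1.IsNormalScheme X)
    [X.Over (Spec (CommRingCat.of k))] [IsProper (X ↘ Spec (CommRingCat.of k))]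
    {F : Type u} [Field F] [Algebra k F] (hfg : (⊤ : IntermediateField k F).FG)
    (hlift : ∀ a0 : Spec (CommRingCat.of F) ⟶ X,
      a0 ≫ (X ↘ Spec (CommRingCat.of k)) = Spec.map (CommRingCat.ofHom (algebraMap k F)) →
      ∀ {Ω : Type u} [Field Ω] (π : Spec (CommRingCat.of Ω) ⟶ Spec (CommRingCat.of F)) (Z : FEt.Cat X)
        (z : Spec (CommRingCat.of Ω) ⟶ Z.left), z ≫ Z.hom = π ≫ a0 →
        ∃ t : Spec (CommRingCat.of F) ⟶ Z.left, t ≫ Z.hom = a0 ∧ π ≫ t = z)
    (φ : X.presheaf.stalk (genericPoint X) →+* F)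
    (hφ : φ.comp (Curv2.stalkMap k X (genericPoint X)) = algebraMap k F) :
    ∃ (Ω : Type u) (_ : Field Ω) (_ : IsAlgClosed Ω) (ξ : Spec (CommRingCat.of Ω) ⟶ X) (N : ℕ),
      (Function.Surjective φ → N = 1) ∧
      ∀ W : FEt.Cat X, ConnectedSpace W.left → Nat.card (FEt.fiberObj ξ W) ≤ N := by
  let pX := X ↘ Spec (CommRingCat.of k)
  haveI : IsLocallyNoetherian X := LocallyOfFiniteType.isLocallyNoetherian pX
  haveI : CompactSpace X := QuasiCompact.compactSpace_of_compactSpace pX
  haveI : IsNoetherian X := {}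
  letI : Field (X.presheaf.stalk (genericPoint X)) := inferInstanceAs (Field X.functionField)
  letI : Algebra (X.presheaf.stalk (genericPoint X)) F := φ.toAlgebra
  haveI : FiniteDimensional (X.presheaf.stalk (genericPoint X)) (algebraicClosure (X.presheaf.stalk (genericPoint X)) F) :=
    GrothLib.FieldExtra.finiteDimensional_algebraicClosure
      (fg_top_of_comp (Curv2.stalkMap k X (genericPoint X)) hφ hfg)
  let π : Spec (CommRingCat.of (AlgebraicClosure F)) ⟶ Spec (CommRingCat.of F) :=
    Spec.map (CommRingCat.ofHom (algebraMap F (AlgebraicClosure F)))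
  refine ⟨AlgebraicClosure F, inferInstance, inferInstance,
    π ≫ Spec.map (CommRingCat.ofHom φ) ≫ X.fromSpecStalk (genericPoint X),
    Module.finrank (X.presheaf.stalk (genericPoint X)) (algebraicClosure (X.presheaf.stalk (genericPoint X)) F),
    fun hsur => ?_, fun W hW => ?_⟩
  · have : algebraicClosure (X.presheaf.stalk (genericPoint X)) F = ⊥ := by
      refine eq_bot_iff.2 fun x _ => ?_
      obtain ⟨y, rfl⟩ := hsur x
      exact IntermediateField.algebraMap_mem _ y
    rw [this, IntermediateField.finrank_bot]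
  · refine card_fiber_le (K := X.presheaf.stalk (genericPoint X)) (X.fromSpecStalk (genericPoint X)) π
      (fun Z z hz => ?_) W ?_
    · refine hlift _ ?_ π Z z hz
      rw [Category.assoc, GrothLib.CplBC5.fromSpecStalk_over, ← Spec.map_comp, ← CommRingCat.ofHom_comp]
      exact congrArg (fun g => Spec.map (CommRingCat.ofHom g)) hφ
    · refine @subsingleton_generic X _ _ hN W hW _ _ (X.fromSpecStalk (genericPoint X)) _ ?_
      exact ⟨IsLocalRing.closedPoint _, Scheme.fromSpecStalk_closedPoint⟩

/-- A connected cover with at most one point in some geometric fibre is trivial. -/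
theorem isIso_of_card_le_one (W : FEt.Cat X) [hW : ConnectedSpace W.left] {Ω : Type u} [Field Ω] [IsAlgClosed Ω]
    (ξ : Spec (CommRingCat.of Ω) ⟶ X) (h : Nat.card (FEt.fiberObj ξ W) ≤ 1) : IsIso W.hom := by
  obtain ⟨s⟩ := GrothLib.FEt21.nonempty_fiber ξ W (Classical.arbitrary W.left)
  haveI : Finite (FEt.fiberObj ξ W) := GrothLib.FEt21.finite_fiber ξ W
  have hc : Nat.card (FEt.fiberObj ξ W) = 1 :=
    le_antisymm h (Nat.card_pos_iff.2 ⟨⟨s⟩, inferInstance⟩)
  haveI : IsFinite W.hom := W.prop.1
  haveI : Etale W.hom := W.prop.2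
  refine (Scheme.Hom.isIso_iff_finrank_eq W.hom).2 (funext fun x => ?_)
  exact (GrothLib.FEt21.finrank_const W x (ξ default)).trans
    ((GrothLib.FEt21.card_fiber ξ W).symm.trans hc)

/-- Boundedness of connected covers gives a universal connected cover. -/
theorem exists_universal {Ω : Type u} [Field Ω] [IsAlgClosed Ω] (ξ : Spec (CommRingCat.of Ω) ⟶ X)
    [IsLocallyNoetherian X] (N : ℕ) (h : ∀ W : FEt.Cat X, ConnectedSpace W.left → Nat.card (FEt.fiberObj ξ W) ≤ N) :
    ∃ Z₀ : FEt.Cat X, ConnectedSpace Z₀.left ∧ ∀ Z : FEt.Cat X, ConnectedSpace Z.left → Nonempty (Z₀ ⟶ Z) := by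
  classical
  let S : Set ℕ := {n | ∃ W : FEt.Cat X, ConnectedSpace W.left ∧ Nat.card (FEt.fiberObj ξ W) = n}
  have hS : S.Nonempty := by
    let T : FEt.Cat X := MorphismProperty.Over.mk ⊤ (𝟙 X) (FEt.prop.id_mem X)
    exact ⟨_, T, inferInstanceAs (ConnectedSpace X), rfl⟩
  have hbdd : BddAbove S := ⟨N, by rintro _ ⟨W, hW, rfl⟩; exact h W hW⟩
  obtain ⟨Z₀, hZ₀, hmax⟩ := Nat.sSup_mem hS hbdd
  refine ⟨Z₀, hZ₀, fun Z hZ => ?_⟩
  haveI := hZ₀
  haveI : IsFinite Z.hom := Z.prop.1
  haveI : Etale Z.hom := Z.prop.2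
  obtain ⟨a⟩ := GrothLib.FEt21.nonempty_fiber ξ Z₀ (Classical.arbitrary Z₀.left)
  obtain ⟨b⟩ := GrothLib.FEt21.nonempty_fiber ξ Z (Classical.arbitrary Z.left)
  let f : pullback Z₀.hom Z.hom ⟶ Z₀.left := pullback.fst Z₀.hom Z.hom
  let P : FEt.Cat X := GrothLib.FEt21.mkOf Z₀ f
    ⟨MorphismProperty.pullback_fst _ _ Z.prop.1, MorphismProperty.pullback_fst _ _ Z.prop.2⟩
  let p1 : P ⟶ Z₀ := MorphismProperty.Over.homMk f rfl
  let p2 : P ⟶ Z := MorphismProperty.Over.homMk (pullback.snd Z₀.hom Z.hom) pullback.condition.symm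
  obtain ⟨C, i, -, hC, -⟩ := exists_component P ((pullback.lift a.1 b.1 (a.2.trans b.2.symm) :
    Spec (CommRingCat.of Ω) ⟶ pullback Z₀.hom Z.hom) default)
  let g : C ⟶ Z₀ := i ≫ p1
  haveI := (GrothLib.FEt21.prop_left g).1
  haveI := (GrothLib.FEt21.prop_left g).2
  haveI := hC
  have hsurj : Function.Surjective ((FEt.fiber ξ).map g) := fun t => by
    obtain ⟨c, hc⟩ := GrothLib.FEt21.exists_map_eq_of_mem_range ξ g t (by
      rw [IsClopen.eq_univ ⟨g.left.isClosedMap.isClosed_range, g.left.isOpenMap.isOpen_range⟩ (Set.range_nonempty _)]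
      trivial)
    exact ⟨c, hc⟩
  haveI : Finite (FEt.fiberObj ξ C) := GrothLib.FEt21.finite_fiber ξ C
  haveI : Finite (FEt.fiberObj ξ Z₀) := GrothLib.FEt21.finite_fiber ξ Z₀
  have hle : Nat.card (FEt.fiberObj ξ C) ≤ Nat.card (FEt.fiberObj ξ Z₀) := by
    rw [hmax]
    exact le_csSup hbdd ⟨C, hC, rfl⟩
  haveI : IsIso g := GrothLib.FEt21.isIso_of_bijective_connected g ξ
    (@Function.Surjective.bijective_of_nat_card_le _ _ (GrothLib.FEt21.finite_fiber ξ C) _ hsurj hle)
  exact ⟨inv g ≫ i ≫ p2⟩

end GrothLib.SimpConn21
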