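import Groth.Agent.S3683
import Groth.Agent.Lib.FEt21.Basic
import Groth.Agent.Lib.LocNoeth.Space
import Mathlib.AlgebraicGeometry.Morphisms.FlatMono
import Groth.Agent.ConstFam21.Main

/-!
# Schemes whose finite étale covers are covered by sections
-/

set_option autoImplicit false
set_option linter.style.haveILetI false
set_option backward.isDefEq.respectTransparency false

universe u

open CategoryTheory CategoryTheory.Limits AlgebraicGeometry

namespace GrothLib.SimpConn21

/-- Every point of every finite étale cover lies on a section. -/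
def Sect (P : Scheme.{u}) : Prop :=
  ∀ (Z : FEt.Cat P) (z : Z.left), ∃ s : P ⟶ Z.left, s ≫ Z.hom = 𝟙 P ∧ z ∈ Set.range s

theorem locallyConnectedSpace (X : Scheme.{u}) [IsLocallyNoetherian X] : LocallyConnectedSpace X :=
  (Groth.Agent.ConstFam21.isLocNoeth X).locallyConnectedSpace

/-- The connected component of a point of a cover of a locally noetherian scheme, as a cover. -/
theorem exists_component {P : Scheme.{u}} [IsLocallyNoetherian P] (Z : FEt.Cat P) (z : Z.left) :
    ∃ (W : FEt.Cat P) (i : W ⟶ Z), IsOpenImmersion i.left ∧ ConnectedSpace W.left ∧ z ∈ Set.range i.left := by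
  haveI : IsFinite Z.hom := Z.prop.1
  haveI : IsLocallyNoetherian ((Functor.fromPUnit P).obj Z.right) := ‹IsLocallyNoetherian P›
  haveI : IsLocallyNoetherian Z.left := LocallyOfFiniteType.isLocallyNoetherian Z.hom
  haveI := locallyConnectedSpace Z.left
  let U : Z.left.Opens := ⟨connectedComponent z, isOpen_connectedComponent⟩
  refine ⟨GrothLib.FEt21.mkOf Z U.ι (GrothLib.FEt21.prop_ι U isClosed_connectedComponent),
    MorphismProperty.Over.homMk U.ι rfl, ?_, ?_, ?_⟩
  · show IsOpenImmersion U.ι
    infer_instance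
  · show ConnectedSpace ↥(U : Scheme.{u})
    exact isConnected_iff_connectedSpace.1 isConnected_connectedComponent
  · show z ∈ Set.range U.ι
    rw [Scheme.Opens.range_ι]
    exact mem_connectedComponent

theorem sect_of_connected {P : Scheme.{u}} [IsLocallyNoetherian P]
    (h : ∀ W : FEt.Cat P, ConnectedSpace W.left → IsIso W.hom) : Sect P := by
  intro Z z
  obtain ⟨W, i, -, hW, w, hw⟩ := exists_component Z z
  haveI : IsIso W.hom := h W hW
  refine ⟨inv W.hom ≫ i.left, ?_, W.hom w, ?_⟩
  · rw [Category.assoc]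
    exact (congrArg (inv W.hom ≫ ·) (Over.w i.hom)).trans (IsIso.inv_hom_id _)
  · rw [← hw]
    show (W.hom ≫ inv W.hom ≫ i.left) w = _
    rw [IsIso.hom_inv_id_assoc]
    rfl

theorem isIso_of_section {P Z : Scheme.{u}} (f : Z ⟶ P) [IsFinite f] [Etale f] [Nonempty P] [ConnectedSpace Z]
    (s : P ⟶ Z) (hs : s ≫ f = 𝟙 P) : IsIso f := by
  haveI : IsFinite (s ≫ f) := by rw [hs]; infer_instance
  haveI : Etale (s ≫ f) := by rw [hs]; infer_instance
  haveI : IsFinite s := IsFinite.of_comp s f
  haveI : Etale s := Etale.of_comp s f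
  haveI : Mono s := mono_of_mono_fac hs
  haveI : IsOpenImmersion s := IsOpenImmersion.of_flat_of_mono s
  haveI : Surjective s := ⟨by
    rw [← Set.range_eq_univ]
    exact IsClopen.eq_univ ⟨s.isClosedMap.isClosed_range, s.opensRange.2⟩ (Set.range_nonempty _)⟩
  haveI : IsIso s := by
    rw [isIso_iff_isOpenImmersion_and_epi_base]
    exact ⟨inferInstance, (TopCat.epi_iff_surjective _).2 s.surjective⟩
  rw [show f = inv s from (IsIso.inv_eq_of_hom_inv_id hs).symm]
  infer_instance

theorem isIso_of_sect {P : Scheme.{u}} [ConnectedSpace P] (hP : Sect P) (W : FEt.Cat P)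
    [ConnectedSpace W.left] : IsIso W.hom := by
  obtain ⟨s, hs, -⟩ := hP W (Classical.arbitrary _)
  haveI : IsFinite W.hom := W.prop.1
  haveI : Etale W.hom := W.prop.2
  exact @isIso_of_section P W.left W.hom _ _ inferInstance _ s hs

/-- A product of two simply connected schemes, one of them proper, is simply connected. -/
theorem sect_prod {k : Type u} [Field k] [IsAlgClosed k] {X Y : Scheme.{u}}
    (pX : X ⟶ Spec (CommRingCat.of k)) (pY : Y ⟶ Spec (CommRingCat.of k)) [IsProper pX] [ConnectedSpace X]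
    [IsLocallyNoetherian Y] [ConnectedSpace Y] [ConnectedSpace ↥(pullback pX pY)]
    (hX : Sect X) (hY : Sect Y) : Sect (pullback pX pY) := by
  haveI : IsLocallyNoetherian (pullback pX pY) :=
    LocallyOfFiniteType.isLocallyNoetherian (pullback.snd pX pY)
  refine sect_of_connected fun W hW => ?_
  obtain ⟨X', Y', φ, hφ, hsurj⟩ := Groth.Agent.S3683.result k pX pY W
  obtain ⟨q, -⟩ := hsurj.surj (Classical.arbitrary W.left)
  obtain ⟨s, hs, -⟩ := hX X' ((pullback.fst (X'.hom ≫ pX) (Y'.hom ≫ pY) : _ ⟶ X'.left) q)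
  obtain ⟨t, ht, -⟩ := hY Y' ((pullback.snd (X'.hom ≫ pX) (Y'.hom ≫ pY) : _ ⟶ Y'.left) q)
  let σ : pullback pX pY ⟶ W.left :=
    pullback.map pX pY (X'.hom ≫ pX) (Y'.hom ≫ pY) s t (𝟙 _) (by rw [Category.comp_id, reassoc_of% hs])
      (by rw [Category.comp_id, reassoc_of% ht]) ≫ φ
  have hσ : σ ≫ W.hom = 𝟙 _ := by
    rw [Category.assoc, hφ]
    apply pullback.hom_ext <;> simp [hs, ht]
  haveI : IsFinite W.hom := W.prop.1
  haveI : Etale W.hom := W.prop.2
  exact @isIso_of_section (pullback pX pY) W.left W.hom _ _ inferInstance _ σ hσ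

end GrothLib.SimpConn21
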