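import Groth.Agent.SimpConn21.Basic
import Groth.Agent.Lib.CurveMult.EtaleIso
import Groth.Agent.Lib.Euler.Rank
import Groth.Agent.Lib.BaseChange.Irred
import Mathlib.RingTheory.TensorProduct.MvPolynomial
import Mathlib.RingTheory.RingHom.Smooth

/-!
# A simply connected proper smooth model of affine space
-/

set_option autoImplicit false
set_option linter.style.haveILetI false
set_option backward.isDefEq.respectTransparency false

universe u

open CategoryTheory CategoryTheory.Limits AlgebraicGeometry TensorProduct MvPolynomial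

namespace GrothLib.SimpConn21

variable (k : Type u) [Field k]

/-- A connected scheme over an algebraically closed field is geometrically connected. -/
theorem geometricallyConnected_of_closed [IsAlgClosed k] {X : Scheme.{u}} (f : X ⟶ Spec (CommRingCat.of k))
    [ConnectedSpace X] : GeometricallyConnected f := by
  letI : X.Over (Spec (CommRingCat.of k)) := ⟨f⟩
  haveI : IsIso (Spec.map (CommRingCat.ofHom (algebraMap k k))) := by
    rw [Algebra.algebraMap_self, show CommRingCat.ofHom (RingHom.id k) = 𝟙 (CommRingCat.of k) from rfl,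
      Spec.map_id]
    infer_instance
  let π : pullback f (Spec.map (CommRingCat.ofHom (algebraMap k k))) ⟶ X := pullback.fst _ _
  haveI : IsIso π := inferInstance
  haveI : ConnectedSpace (Curv2.bc k X k) := (inv π).surjective.connectedSpace (inv π).continuous
  exact GrothLib.BaseChange.geometricallyConnected_of_connected_bc k X k

/-- The affine line in the projective line. -/
theorem exists_chart :
    ∃ j : Spec (CommRingCat.of (MvPolynomial (Fin 1) k)) ⟶ CohB1.ProjSpace 1 k, IsOpenImmersion j ∧
      j ≫ CohB1.ProjSpace.toSpec 1 k = Spec.map (CommRingCat.ofHom (algebraMap k (MvPolynomial (Fin 1) k))) := by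
  let i : Fin 2 := 0
  let v : Fin 2 → MvPolynomial (Fin 1) k := i.insertNth 1 X
  let f : MvPolynomial (Fin 2) k →+* MvPolynomial (Fin 1) k := eval₂Hom C v
  have hvi : v i = 1 := Fin.insertNth_apply_same (α := fun _ => MvPolynomial (Fin 1) k) i 1 X
  have hf : IsUnit (f (X i)) := by simp [f, hvi]
  let A := HomogeneousLocalization.Away (CohB1.polyGrading 1 k) (X i : MvPolynomial (Fin 2) k)
  let φ : A →+* MvPolynomial (Fin 1) k := ProjPt.evalAway (CohB1.polyGrading 1 k) f (X i) hf
  let ψ : MvPolynomial (Fin 1) k →+* A :=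
    eval₂Hom (Ample.ProjMap.cst (X i)) fun j => Ample.ProjMap.ratio i (i.succAbove j)
  have hφc : ∀ r, φ (Ample.ProjMap.cst (X i) r) = C r := fun r => by
    have h := Ample.ProjMap.evalAway_cst f i hf r
    simpa [φ, f] using h
  have hφr : ∀ t, φ (Ample.ProjMap.ratio i t) = v t := fun t => by
    have h := Ample.ProjMap.evalAway_ratio f i t hf
    simpa [φ, f, hvi] using h
  have hrr : Ample.ProjMap.ratio (R := k) i i = 1 := by
    refine HomogeneousLocalization.val_injective _ ?_
    rw [HomogeneousLocalization.val_one]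
    refine (IsLocalization.map_units (Localization.Away (X i : MvPolynomial (Fin 2) k))
      (⟨X i, Submonoid.mem_powers _⟩ : Submonoid.powers (X i : MvPolynomial (Fin 2) k))).mul_right_cancel ?_
    rw [one_mul]
    exact Ample.ProjMap.ratio_val i i
  have h1 : ψ.comp φ = RingHom.id _ := by
    refine Ample.ProjMap.awayHom_ext (RingHom.ext fun r => ?_) fun t => ?_
    · show ψ (φ (Ample.ProjMap.cst (X i) r)) = Ample.ProjMap.cst (X i) r
      rw [hφc]; exact eval₂Hom_C _ _ _
    · rcases Fin.eq_self_or_eq_succAbove i t with rfl | ⟨j, rfl⟩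
      · show ψ (φ (Ample.ProjMap.ratio i i)) = Ample.ProjMap.ratio i i
        rw [hφr, hvi, map_one, hrr]
      · show ψ (φ (Ample.ProjMap.ratio i (i.succAbove j))) = Ample.ProjMap.ratio i (i.succAbove j)
        rw [hφr]; simp [ψ, v]
  have h2 : φ.comp ψ = RingHom.id _ := by
    refine MvPolynomial.ringHom_ext (fun r => ?_) fun j => ?_
    · show φ (ψ (C r)) = C r
      rw [show ψ (C r) = Ample.ProjMap.cst (X i) r from eval₂Hom_C _ _ _, hφc]
    · show φ (ψ (X j)) = X j
      rw [show ψ (X j) = Ample.ProjMap.ratio i (i.succAbove j) from eval₂Hom_X' _ _ _, hφr]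
      exact Fin.insertNth_apply_succAbove (α := fun _ => MvPolynomial (Fin 1) k) i 1 X j
  let e : A ≃+* MvPolynomial (Fin 1) k := RingEquiv.ofRingHom φ ψ h2 h1
  let em : Spec (CommRingCat.of (MvPolynomial (Fin 1) k)) ⟶ Spec (CommRingCat.of A) :=
    Spec.map (CommRingCat.ofHom φ)
  haveI : IsIso (CommRingCat.ofHom φ) := e.toCommRingCatIso.isIso_hom
  haveI : IsIso em := inferInstance
  refine ⟨em ≫ Proj.awayι (CohB1.polyGrading 1 k) (X i) (Ample.ProjMap.X_mem i) one_pos, inferInstance, ?_⟩
  rw [Category.assoc, Ample.ProjMap.awayι_toSpec, ← Spec.map_comp, ← CommRingCat.ofHom_comp]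
  congr 2
  exact RingHom.ext fun r => hφc r

theorem sect_projLine [IsAlgClosed k] : Sect (CohB1.ProjSpace 1 k) := by
  haveI : IsProper (CohB1.ProjSpace.toSpec 1 k) := Chow.isProper_toSpec 1 k
  haveI : IsLocallyNoetherian (CohB1.ProjSpace 1 k) :=
    LocallyOfFiniteType.isLocallyNoetherian (CohB1.ProjSpace.toSpec 1 k)
  refine sect_of_connected fun W hW => ?_
  haveI : IsFinite W.hom := W.prop.1
  haveI : Etale W.hom := W.prop.2
  haveI : GeometricallyConnected (W.hom ≫ CohB1.ProjSpace.toSpec 1 k) :=
    @geometricallyConnected_of_closed k _ _ W.left _ hW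
  exact GrothLib.CurveMult.isIso_of_finite_etale_P1 k W.hom

theorem sect_point [IsAlgClosed k] {P : Scheme.{u}} (e : P ≅ Spec (CommRingCat.of k)) : Sect P := by
  haveI : IsLocallyNoetherian P := isLocallyNoetherian_of_isOpenImmersion e.hom
  refine sect_of_connected fun W hW => ?_
  haveI : IsFinite W.hom := W.prop.1
  haveI : Etale W.hom := W.prop.2
  haveI : Subsingleton (Spec (CommRingCat.of k)) := inferInstanceAs (Subsingleton (PrimeSpectrum k))
  haveI : Subsingleton P := e.hom.injective.subsingleton
  haveI : Nonempty P := ⟨e.inv default⟩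
  haveI : PreconnectedSpace P := inferInstance
  obtain ⟨s⟩ := GrothLib.FEt21.nonempty_fiber e.inv W (Classical.arbitrary W.left)
  exact @isIso_of_section P W.left W.hom _ _ inferInstance _ (e.hom ≫ s.1) (by
    rw [Category.assoc]
    exact (congrArg (e.hom ≫ ·) s.2).trans e.hom_inv_id)

/-- A smooth proper simply connected compactification of affine space. -/
theorem exists_model [IsAlgClosed k] : ∀ r : ℕ, ∃ (P : Scheme.{u}) (p : P ⟶ Spec (CommRingCat.of k))
    (j : Spec (CommRingCat.of (MvPolynomial (Fin r) k)) ⟶ P), IsProper p ∧ Smooth p ∧ IsIntegral P ∧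
      IsOpenImmersion j ∧ j ≫ p = Spec.map (CommRingCat.ofHom (algebraMap k (MvPolynomial (Fin r) k))) ∧ Sect P := by
  intro r
  induction r with
  | zero =>
    let e : MvPolynomial (Fin 0) k ≃+* k := (MvPolynomial.isEmptyAlgEquiv k (Fin 0)).toRingEquiv
    haveI : IsIso (CommRingCat.ofHom e.symm.toRingHom) := e.symm.toCommRingCatIso.isIso_hom
    haveI : IsIso (Spec.map (CommRingCat.ofHom (algebraMap k (MvPolynomial (Fin 0) k)))) := by
      rw [show algebraMap k (MvPolynomial (Fin 0) k) = e.symm.toRingHom from RingHom.ext fun x =>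
        (e.symm_apply_eq.2 (by
          show x = (MvPolynomial.isEmptyAlgEquiv k (Fin 0)) (algebraMap k _ x)
          rw [AlgEquiv.commutes]; rfl)).symm]
      infer_instance
    exact ⟨_, Spec.map (CommRingCat.ofHom (algebraMap k (MvPolynomial (Fin 0) k))), 𝟙 _, inferInstance,
      inferInstance, inferInstance, inferInstance, Category.id_comp _,
      sect_point k (asIso (Spec.map (CommRingCat.ofHom (algebraMap k (MvPolynomial (Fin 0) k)))))⟩
  | succ r ih =>
    obtain ⟨P, p, j, hp, hsm, hP, hj, hjp, hsect⟩ := ih
    let q := CohB1.ProjSpace.toSpec 1 k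
    obtain ⟨c, hc, hcq⟩ := exists_chart k
    haveI : IsProper q := Chow.isProper_toSpec 1 k
    haveI : Smooth q := GrothLib.CurveMult.smooth_toSpec 1 k
    haveI : IsIntegral (CohB1.ProjSpace 1 k) := ProjDim.isIntegral_proj k 1
    haveI : IsLocallyNoetherian P := LocallyOfFiniteType.isLocallyNoetherian p
    haveI : GeometricallyConnected q := geometricallyConnected_of_closed k q
    haveI : UniversallyOpen q := inferInstance
    haveI : GeometricallyConnected (pullback.snd q p) := inferInstance
    haveI : ConnectedSpace ↥(pullback q p) :=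
      GeometricallyConnected.connectedSpace (pullback.snd q p) (pullback.snd q p).isOpenMap
    let π : pullback q p ⟶ Spec (CommRingCat.of k) := pullback.fst q p ≫ q
    haveI : IsProper π := inferInstance
    haveI : Smooth π := inferInstance
    let e : MvPolynomial (Fin 1) k ⊗[k] MvPolynomial (Fin r) k ≃ₐ[k] MvPolynomial (Fin (r + 1)) k :=
      (MvPolynomial.tensorEquivSum k (Fin 1) (Fin r) k).trans
        (MvPolynomial.renameEquiv k ((finSumFinEquiv (m := 1) (n := r)).trans (finCongr (Nat.add_comm 1 r))))
    let m := pullback.map (Spec.map (CommRingCat.ofHom (algebraMap k (MvPolynomial (Fin 1) k))))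
      (Spec.map (CommRingCat.ofHom (algebraMap k (MvPolynomial (Fin r) k)))) q p c j (𝟙 _)
      (by rw [Category.comp_id, hcq]) (by rw [Category.comp_id, hjp])
    haveI : IsOpenImmersion m := inferInstance
    haveI : IsIso (CommRingCat.ofHom e.toRingEquiv.toRingHom) := e.toRingEquiv.toCommRingCatIso.isIso_hom
    refine ⟨pullback q p, π, Spec.map (CommRingCat.ofHom e.toRingEquiv.toRingHom) ≫
      (pullbackSpecIso k (MvPolynomial (Fin 1) k) (MvPolynomial (Fin r) k)).inv ≫ m, inferInstance,
      inferInstance, GrothLib.Euler.isIntegral_of_smooth_connected k π, inferInstance, ?_,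
      sect_prod q p (sect_projLine k) hsect⟩
    simp only [Category.assoc, m, π, pullback.lift_fst_assoc]
    rw [pullbackSpecIso_inv_fst_assoc, hcq]
    simp only [← Spec.map_comp, ← CommRingCat.ofHom_comp]
    congr 2
    exact RingHom.ext fun x => e.commutes x

end GrothLib.SimpConn21
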