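import Groth.Agent.SimpConn21.Model
import Groth.Agent.S2918
import Groth.Agent.Lib.AlgMisc.GeomRegAt
import Mathlib.AlgebraicGeometry.SpreadingOut
import Mathlib.AlgebraicGeometry.FunctionField

/-!
# Covers of a proper variety at the points with values in a purely transcendental extension
-/

set_option autoImplicit false
set_option linter.style.haveILetI false
set_option backward.isDefEq.respectTransparency false

universe u

open CategoryTheory CategoryTheory.Limits AlgebraicGeometry

namespace GrothLib.SimpConn21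

/-- Every geometric point of a cover over a point with values in a rational function field comes from a point with
values in this field. -/
theorem exists_rational_lift (k : Type u) [Field k] [IsAlgClosed k] {X : Scheme.{u}}
    (pX : X ⟶ Spec (CommRingCat.of k)) [IsProper pX] (r : ℕ)
    (a0 : Spec (CommRingCat.of (FractionRing (MvPolynomial (Fin r) k))) ⟶ X)
    (ha0 : a0 ≫ pX = Spec.map (CommRingCat.ofHom (algebraMap k (FractionRing (MvPolynomial (Fin r) k)))))
    {Ω : Type u} [Field Ω] (π : Spec (CommRingCat.of Ω) ⟶ Spec (CommRingCat.of (FractionRing (MvPolynomial (Fin r) k))))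
    (Z : FEt.Cat X) (z : Spec (CommRingCat.of Ω) ⟶ Z.left) (hz : z ≫ Z.hom = π ≫ a0) :
    ∃ t : Spec (CommRingCat.of (FractionRing (MvPolynomial (Fin r) k))) ⟶ Z.left,
      t ≫ Z.hom = a0 ∧ π ≫ t = z := by
  let R := MvPolynomial (Fin r) k
  let F := FractionRing R
  obtain ⟨P, p, j, hp, hsm, hP, hj, hjp, hsect⟩ := exists_model k r
  haveI : IsLocallyNoetherian P := LocallyOfFiniteType.isLocallyNoetherian p
  haveI : LocallyOfFinitePresentation p := inferInstance
  have hreg : ∀ x : P, IsRegularLocalRing (P.presheaf.stalk x) := fun x =>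
    Groth.Agent.Lib.AlgMisc.GeomRegAt.isRegularLocalRing_stalk_of_mem_smoothLocus p (by simp [p.smoothLocus_eq_top])
  let A := Spec (CommRingCat.of R)
  haveI : IsDomain (CommRingCat.of R) := inferInstanceAs (IsDomain R)
  let x : A := genericPoint A
  letI : Algebra R (A.presheaf.stalk x) := StructureSheaf.stalkAlgebra (R := R) x
  haveI : IsFractionRing R (A.presheaf.stalk x) := by
    have h1 : IsLocalization.AtPrime (A.presheaf.stalk x) (PrimeSpectrum.asIdeal (R := R) x) :=
      StructureSheaf.IsLocalization.to_stalk (R := R) x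
    have h2 : (PrimeSpectrum.asIdeal (R := R) x).primeCompl = nonZeroDivisors R := by
      have hx : x = (⊥ : PrimeSpectrum R) := genericPoint_eq_bot_of_affine (CommRingCat.of R)
      ext y
      show y ∉ PrimeSpectrum.asIdeal (R := R) x ↔ _
      rw [show (y ∈ PrimeSpectrum.asIdeal (R := R) x) = (y ∈ (⊥ : Ideal R)) from congrArg (fun z : PrimeSpectrum R => y ∈ z.asIdeal) hx]
      simp [mem_nonZeroDivisors_iff_ne_zero]
    show IsLocalization (nonZeroDivisors R) (A.presheaf.stalk x)
    rw [← h2]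
    exact h1
  let eF : A.presheaf.stalk x ≃ₐ[R] F := IsLocalization.algEquiv (nonZeroDivisors R) _ _
  let φ : Spec (A.presheaf.stalk x) ⟶ X := Spec.map (CommRingCat.ofHom eF.symm.toRingEquiv.toRingHom) ≫ a0
  let sA : A ⟶ Spec (CommRingCat.of k) := Spec.map (CommRingCat.ofHom (algebraMap k R))
  have hst : A.fromSpecStalk x = Spec.map (CommRingCat.ofHom (algebraMap R (A.presheaf.stalk x))) :=
    Spec.fromSpecStalk_eq' (CommRingCat.of R) x
  have hφ : φ ≫ pX = A.fromSpecStalk x ≫ sA := by
    rw [Category.assoc, ha0, hst, ← Spec.map_comp, ← Spec.map_comp, ← CommRingCat.ofHom_comp,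
      ← CommRingCat.ofHom_comp]
    congr 2
    rw [IsScalarTower.algebraMap_eq k R (FractionRing (MvPolynomial (Fin r) k)), ← RingHom.comp_assoc]
    congr 1
    exact RingHom.ext fun y => eF.symm.commutes y
  obtain ⟨U, hxU, f, hf, hfk⟩ := spread_out_of_isGermInjective' sA pX φ hφ
  let h : (U : Scheme.{u}) ⟶ P := U.ι ≫ j
  let e : (U : Scheme.{u}) ≅ (h.opensRange : Scheme.{u}) :=
    IsOpenImmersion.isoOfRangeEq h h.opensRange.ι (by simp)
  let a : (h.opensRange : Scheme.{u}) ⟶ X := e.inv ≫ f
  have he : e.inv ≫ h = h.opensRange.ι := by simp [e]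
  have ha : a ≫ pX = h.opensRange.ι ≫ p := by
    rw [← he, Category.assoc, Category.assoc, Category.assoc, hjp, hfk]
  have hU : Dense (h.opensRange : Set P) := h.opensRange.2.dense ⟨_, ⟨⟨x, hxU⟩, rfl⟩⟩
  let δ : Spec (CommRingCat.of F) ⟶ (h.opensRange : Scheme.{u}) :=
    Spec.map (CommRingCat.ofHom eF.toRingEquiv.toRingHom) ≫ U.fromSpecStalkOfMem x hxU ≫ e.hom
  have hδ : δ ≫ a = a0 := by
    simp only [δ, a, Category.assoc, Iso.hom_inv_id_assoc]
    rw [← hf, ← Spec.map_comp_assoc, ← CommRingCat.ofHom_comp,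
      show eF.toRingEquiv.toRingHom.comp eF.symm.toRingEquiv.toRingHom = RingHom.id _ from
        RingHom.ext fun y => eF.apply_symm_apply y, CommRingCat.ofHom_id, Spec.map_id, Category.id_comp]
  obtain ⟨B, ⟨i⟩⟩ := Groth.Agent.S2918.essImage_le p pX hreg h.opensRange hU a ha Z
  let ι' := h.opensRange.ι
  have hi1 : i.hom.left ≫ pullback.snd Z.hom a = pullback.snd B.hom ι' := Over.w i.hom.hom
  have hi2 : i.inv.left ≫ pullback.snd B.hom ι' = pullback.snd Z.hom a := Over.w i.inv.hom
  have hii : i.inv.left ≫ i.hom.left = 𝟙 _ := congrArg (fun t => t.left) i.inv_hom_id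
  let w : Spec (CommRingCat.of Ω) ⟶ pullback Z.hom a :=
    pullback.lift z (π ≫ δ) (by rw [Category.assoc, hδ]; exact hz)
  let q : Spec (CommRingCat.of Ω) ⟶ pullback B.hom ι' := w ≫ i.inv.left
  have hq : q ≫ pullback.snd B.hom ι' = π ≫ δ := by
    simp only [q, Category.assoc, hi2]
    exact pullback.lift_snd _ _ _
  obtain ⟨s, hs, hq'⟩ := hsect B ((pullback.fst B.hom ι' : _ ⟶ B.left) (q (IsLocalRing.closedPoint Ω)))
  haveI : IsFinite B.hom := B.prop.1
  haveI : Etale B.hom := B.prop.2
  haveI : IsFinite (s ≫ B.hom) := by rw [hs]; exact inferInstanceAs (IsFinite (𝟙 P))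
  haveI : Etale (s ≫ B.hom) := by rw [hs]; exact inferInstanceAs (Etale (𝟙 P))
  haveI : Etale s := Etale.of_comp s B.hom
  haveI : IsFinite s := IsFinite.of_comp s B.hom
  haveI : Mono s := mono_of_mono_fac hs
  haveI : IsOpenImmersion s := IsOpenImmersion.of_flat_of_mono s
  let c := IsOpenImmersion.lift s (q ≫ pullback.fst B.hom ι') (by
    rintro - ⟨y, rfl⟩
    rw [Subsingleton.elim (α := PrimeSpectrum Ω) y (IsLocalRing.closedPoint Ω), Scheme.Hom.comp_apply]
    exact hq')
  have hc : c ≫ s = q ≫ pullback.fst B.hom ι' := IsOpenImmersion.lift_fac _ _ _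
  have hc2 : c = q ≫ pullback.snd B.hom ι' ≫ ι' := by
    rw [← pullback.condition, ← Category.assoc, ← hc, Category.assoc, hs]
    exact (Category.comp_id c).symm
  let σ : (h.opensRange : Scheme.{u}) ⟶ pullback B.hom ι' :=
    pullback.lift (ι' ≫ s) (𝟙 _) (by rw [Category.assoc, hs, Category.id_comp]; exact Category.comp_id _)
  have hqσ : q = (π ≫ δ) ≫ σ := by
    rw [← hq]
    apply pullback.hom_ext
    · rw [← hc, hc2]; simp [σ]
    · simp [σ]
  refine ⟨δ ≫ σ ≫ i.hom.left ≫ pullback.fst Z.hom a, ?_, ?_⟩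
  · simp only [Category.assoc]
    have h2 : σ ≫ i.hom.left ≫ pullback.snd Z.hom a = 𝟙 _ := by rw [hi1]; exact pullback.lift_snd _ _ _
    rw [pullback.condition, reassoc_of% h2, hδ]
  · have h3 : π ≫ δ ≫ σ ≫ i.hom.left = w := by
      rw [← Category.assoc, ← Category.assoc, ← hqσ]
      simp only [q, Category.assoc, hii]
      exact Category.comp_id w
    rw [reassoc_of% h3]
    exact pullback.lift_fst _ _ _

end GrothLib.SimpConn21
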