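import Groth.Agent.SimpConn21.RatMap
import Groth.Agent.Lib.CplBC5.Scheme
import Groth.Agent.Lib.FieldExtra.Insep
import Groth.Prelude.Def_Pi1

/-!
# Covers of rational and unirational proper normal varieties
-/

set_option autoImplicit false
set_option linter.style.haveILetI false
set_option backward.isDefEq.respectTransparency false

universe u

open CategoryTheory CategoryTheory.Limits AlgebraicGeometry

namespace GrothLib.SimpConn21

section Sections

variable {P Z : Scheme.{u}} {f : Z ⟶ P} [IsFinite f] [Etale f] {s : P ⟶ Z} (hs : s ≫ f = 𝟙 P)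

include f hs in
theorem isClopen_range_section : IsOpenImmersion s ∧ IsClopen (Set.range s) := by
  haveI : IsFinite (s ≫ f) := by rw [hs]; infer_instance
  haveI : Etale (s ≫ f) := by rw [hs]; infer_instance
  haveI : IsFinite s := IsFinite.of_comp s f
  haveI : Etale s := Etale.of_comp s f
  haveI : Mono s := mono_of_mono_fac hs
  haveI : IsOpenImmersion s := IsOpenImmersion.of_flat_of_mono s
  exact ⟨inferInstance, s.isClosedMap.isClosed_range, s.opensRange.2⟩

include f hs in
theorem range_section_eq [ConnectedSpace P] {z : Z} (hz : z ∈ Set.range s) : Set.range s = connectedComponent z :=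
  Set.Subset.antisymm ((isPreconnected_range s.continuous).subset_connectedComponent hz)
    ((isClopen_range_section hs).2.connectedComponent_subset hz)

include f hs in
theorem section_eq_of_range {s' : P ⟶ Z} (hs' : s' ≫ f = 𝟙 P) (h : Set.range s' ⊆ Set.range s) : s' = s := by
  haveI := (isClopen_range_section hs).1
  have hl := IsOpenImmersion.lift_fac s s' h
  have : IsOpenImmersion.lift s s' h = 𝟙 P := by
    have := congrArg (· ≫ f) hl
    simpa only [Category.assoc, hs, hs', Category.comp_id] using this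
  rw [← hl, this, Category.id_comp]

include f hs in
theorem eq_comp_section {T : Scheme.{u}} (t : T ⟶ Z) (h : Set.range t ⊆ Set.range s) : t = (t ≫ f) ≫ s := by
  haveI := (isClopen_range_section hs).1
  have hl := IsOpenImmersion.lift_fac s t h
  conv_rhs => rw [← hl, Category.assoc, Category.assoc, reassoc_of% hs]
  exact hl.symm

end Sections

/-- A connected scheme all whose covers are covered by sections has only split covers. -/
theorem isSplit_of_sect {P : Scheme.{u}} [ConnectedSpace P] (hP : Sect P) {Ω : Type u} [Field Ω] [IsAlgClosed Ω]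
    (ξ : Spec (CommRingCat.of Ω) ⟶ P) (Z : FEt.Cat P) : Pi1.IsSplit Z := by
  classical
  haveI : IsFinite Z.hom := Z.prop.1
  haveI : Etale Z.hom := Z.prop.2
  let pt : Spec (CommRingCat.of Ω) := IsLocalRing.closedPoint Ω
  have hsub : Subsingleton (Spec (CommRingCat.of Ω)) := inferInstanceAs (Subsingleton (PrimeSpectrum Ω))
  choose s hs hmem using fun t : FEt.fiberObj ξ Z => hP Z (t.1 pt)
  have ht : ∀ t : FEt.fiberObj ξ Z, t.1 = ξ ≫ s t := fun t => by
    have h := eq_comp_section (hs t) t.1 (by
      rintro - ⟨y, rfl⟩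
      rw [Subsingleton.elim y pt]
      exact hmem t)
    refine h.trans ?_
    exact congrArg (· ≫ s t) t.2
  have hop : ∀ t, IsOpenImmersion (s t) := fun t => (isClopen_range_section (hs t)).1
  have hdisj : Pairwise (Function.onFun Disjoint fun t => Set.range (s t)) := fun t t' hne => by
    rw [Function.onFun, Set.disjoint_left]
    intro z hz hz'
    refine hne (Subtype.ext ?_)
    rw [ht t, ht t', section_eq_of_range (hs t') (hs t)
      (by rw [range_section_eq (hs t) hz, range_section_eq (hs t') hz'])]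
  let d : (∐ fun _ : FEt.fiberObj ξ Z => P) ⟶ Z.left := Sigma.desc s
  haveI : IsOpenImmersion d := isOpenImmersion_sigmaDesc _ s hdisj
  haveI : Surjective d := ⟨fun z => by
    obtain ⟨σ, hσ, hz⟩ := hP Z z
    let t : FEt.fiberObj ξ Z := ⟨ξ ≫ σ, by
      rw [Category.assoc]; exact (congrArg (ξ ≫ ·) hσ).trans (Category.comp_id ξ)⟩
    have h1 : t.1 pt ∈ Set.range σ := ⟨ξ pt, rfl⟩
    have h2 : Set.range (s t) = Set.range σ := by
      rw [range_section_eq (hs t) (hmem t), range_section_eq hσ h1]
    obtain ⟨y, hy⟩ := h2 ▸ hz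
    exact ⟨Sigma.ι (fun _ : FEt.fiberObj ξ Z => P) t y, by
      rw [← Scheme.Hom.comp_apply, Sigma.ι_desc]; exact hy⟩⟩
  haveI : IsIso d := by
    rw [isIso_iff_isOpenImmersion_and_epi_base]
    exact ⟨inferInstance, (TopCat.epi_iff_surjective _).2 d.surjective⟩
  refine ⟨FEt.fiberObj ξ Z, GrothLib.FEt21.finite_fiber ξ Z, (asIso d).symm, fun t => ?_⟩
  show Sigma.ι (fun _ : FEt.fiberObj ξ Z => P) t ≫ d ≫ Z.hom = _
  rw [reassoc_of% (Sigma.ι_desc s t)]
  exact hs t

/-- The number of geometric points of a connected cover over a point with values in a field into which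
it lifts is bounded by the algebraic closure of the base field in it. -/
theorem card_fiber_le {X : Scheme.{u}} {K F : Type u} [Field K] [Field F] [Algebra K F]
    [FiniteDimensional K (algebraicClosure K F)] (jK : Spec (CommRingCat.of K) ⟶ X)
    {Ω : Type u} [Field Ω] [IsAlgClosed Ω] (π : Spec (CommRingCat.of Ω) ⟶ Spec (CommRingCat.of F))
    (hlift : ∀ (Z : FEt.Cat X) (z : Spec (CommRingCat.of Ω) ⟶ Z.left),
      z ≫ Z.hom = π ≫ Spec.map (CommRingCat.ofHom (algebraMap K F)) ≫ jK →
      ∃ t : Spec (CommRingCat.of F) ⟶ Z.left,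
        t ≫ Z.hom = Spec.map (CommRingCat.ofHom (algebraMap K F)) ≫ jK ∧ π ≫ t = z)
    (Z : FEt.Cat X) (hZ : Subsingleton ↥(pullback Z.hom jK)) :
    Nat.card (FEt.fiberObj (π ≫ Spec.map (CommRingCat.ofHom (algebraMap K F)) ≫ jK) Z) ≤
      Module.finrank K (algebraicClosure K F) := by
  let ξ := π ≫ Spec.map (CommRingCat.ofHom (algebraMap K F)) ≫ jK
  by_cases hne : IsEmpty (FEt.fiberObj ξ Z)
  · rw [Nat.card_of_isEmpty]; exact Nat.zero_le _
  obtain ⟨z⟩ := not_isEmpty_iff.1 hne
  obtain ⟨t, ht, -⟩ := hlift Z z.1 z.2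
  let Q := pullback Z.hom jK
  let q : Q ⟶ Spec (CommRingCat.of K) := pullback.snd Z.hom jK
  haveI : IsFinite Z.hom := Z.prop.1
  haveI : Etale Z.hom := Z.prop.2
  haveI : IsAffine Q := isAffine_of_isAffineHom q
  obtain ⟨ψ, hψ⟩ := Spec.map_surjective (Q.isoSpec.inv ≫ q)
  let t' : Spec (CommRingCat.of F) ⟶ Q := pullback.lift t (Spec.map (CommRingCat.ofHom (algebraMap K F))) ht
  obtain ⟨ρ, hρ⟩ := Spec.map_surjective (t' ≫ Q.isoSpec.hom)
  have h1 : IsFinite (Spec.map ψ) := by rw [hψ]; infer_instance
  have h2 : Etale (Spec.map ψ) := by rw [hψ]; infer_instance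
  rw [IsFinite.SpecMap_iff] at h1
  rw [HasRingHomProperty.Spec_iff (P := @Etale)] at h2
  algebraize [ψ.hom]
  have hcard : Nat.card (FEt.fiberObj ξ Z) = Module.finrank K Γ(Q, ⊤) := by
    rw [GrothLib.FEt21.card_fiber]
    have := Scheme.Hom.finrank_SpecMap_algebraMap K Γ(Q, ⊤)
      (Spec.map (CommRingCat.ofHom (algebraMap K F)) (π default))
    rw [show CommRingCat.ofHom (algebraMap K Γ(Q, ⊤)) = ψ from rfl, hψ,
      Scheme.Hom.finrank_comp_left_of_isIso, Scheme.Hom.finrank_pullback_snd,
      Module.rankAtStalk_eq_finrank_of_free] at this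
    exact this
  haveI : Subsingleton (PrimeSpectrum Γ(Q, ⊤)) := Q.isoSpec.inv.injective.subsingleton
  haveI : IsArtinianRing Γ(Q, ⊤) := isArtinian_of_tower K inferInstance
  haveI : _root_.IsReduced Γ(Q, ⊤) := Algebra.FormallyUnramified.isReduced_of_field K _
  let e : Γ(Q, ⊤) →ₐ[K] F :=
    { ρ.hom with
      commutes' := fun x => by
        have h : ψ ≫ ρ = CommRingCat.ofHom (algebraMap K F) := Spec.map_injective (by
          rw [Spec.map_comp, hρ, hψ, Category.assoc, Iso.hom_inv_id_assoc]
          exact pullback.lift_snd _ _ _)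
        exact ConcreteCategory.congr_hom h x }
  have hinj : Function.Injective e := by
    rw [injective_iff_map_eq_zero]
    intro x hx
    refine IsNilpotent.eq_zero ?_
    rw [← mem_nilradical, nilradical_eq_sInf]
    refine Ideal.mem_sInf.2 fun {p} hp => ?_
    haveI : (RingHom.ker e.toRingHom).IsPrime := RingHom.ker_isPrime _
    rw [show p = RingHom.ker e.toRingHom from congrArg PrimeSpectrum.asIdeal
      (Subsingleton.elim (⟨p, hp⟩ : PrimeSpectrum Γ(Q, ⊤)) ⟨RingHom.ker e.toRingHom, inferInstance⟩)]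
    exact hx
  have hrange : ∀ x, e x ∈ algebraicClosure K F := fun x =>
    mem_algebraicClosure_iff'.2 ((Algebra.IsIntegral.isIntegral x).map e)
  refine hcard.le.trans (LinearMap.finrank_le_finrank_of_injective
    (f := (e.codRestrict (algebraicClosure K F).toSubalgebra hrange).toLinearMap) fun a b h => hinj ?_)
  exact congrArg Subtype.val h

end GrothLib.SimpConn21
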